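import Mathlib
import Cfsg.Agent.S2475
import Cfsg.Agent.IsoSpecS4.Witness

/-!
Arbitrarily large groups whose element orders are the divisors of `6`, `9`, `q - 1`, `(q + 1) / 2`: powers of
the module of two by two matrices, twisted by cubing, extended by `SL₂(q)` and a sign.
-/

set_option autoImplicit false

namespace Cfsg.Agent.ReeCube

open Matrix

variable (K : Type*) [Field K] [CharP K 3] (N : ℕ)

instance fact_three : Fact (Nat.Prime 3) := ⟨Nat.prime_three⟩

/-- Cubing. -/
def cube : K →+* K := frobenius K 3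

/-- The acting group before taking the image. -/
abbrev G0 : Type _ := Matrix.SpecialLinearGroup (Fin 2) K × ℤˣ

/-- The module. -/
abbrev M0 : Type _ := Matrix (Fin 2) (Fin 2) K

variable {K}

/-- The action on one copy. -/
def act (z : G0 K) (M : M0 K) : M0 K :=
  ((z.2 : ℤ) : K) • (z.1.1 * M * (z.1.1.map (cube K)).transpose)

theorem act_one (M : M0 K) : act (1 : G0 K) M = M := by
  simp [act, Matrix.map_one]

omit [CharP K 3] in
theorem coe_mul' (a b : Matrix.SpecialLinearGroup (Fin 2) K) : (a * b).1 = a.1 * b.1 := rfl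

theorem act_mul (z w : G0 K) (M : M0 K) : act (z * w) M = act z (act w M) := by
  simp only [act, Prod.fst_mul, Prod.snd_mul, coe_mul', Units.val_mul, Int.cast_mul,
    Matrix.map_mul, Matrix.transpose_mul, Matrix.mul_smul, Matrix.smul_mul, smul_smul, Matrix.mul_assoc]

theorem act_add (z : G0 K) (A B : M0 K) : act z (A + B) = act z A + act z B := by
  simp [act, Matrix.mul_add, Matrix.add_mul, smul_add]

theorem act_zero (z : G0 K) : act z (0 : M0 K) = 0 := by simp [act]

/-- An element as an automorphism of the power of the module. -/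
def aut (z : G0 K) : MulAut (Multiplicative (Fin N → M0 K)) :=
  AddEquiv.toMultiplicative
    { toFun := fun v i => act z (v i)
      invFun := fun v i => act z⁻¹ (v i)
      left_inv := fun v => funext fun i => by simp only; rw [← act_mul, inv_mul_cancel, act_one]
      right_inv := fun v => funext fun i => by simp only; rw [← act_mul, mul_inv_cancel, act_one]
      map_add' := fun v w => funext fun i => act_add z (v i) (w i) }

theorem aut_apply (z : G0 K) (v : Multiplicative (Fin N → M0 K)) :
    aut N z v = Multiplicative.ofAdd (fun i => act z (v.toAdd i)) := rfl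

/-- The action as a homomorphism. -/
def rho : G0 K →* MulAut (Multiplicative (Fin N → M0 K)) where
  toFun := aut N
  map_one' := by
    ext v : 1
    rw [aut_apply]
    simp [act_one]
  map_mul' z w := by
    ext v : 1
    simp only [MulAut.mul_apply, aut_apply, toAdd_ofAdd, act_mul]

variable (K) in
/-- The group. -/
abbrev Ext : Type _ :=
  SemidirectProduct (Multiplicative (Fin N → M0 K)) (rho (K := K) N).range (rho (K := K) N).range.subtype

/-- An element of the group from a vector and a parameter. -/
def el (v : Fin N → M0 K) (z : G0 K) : Ext K N :=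
  ⟨Multiplicative.ofAdd v, ⟨rho N z, z, rfl⟩⟩

theorem exists_el (x : Ext K N) : ∃ v z, x = el N v z := by
  obtain ⟨v, ⟨a, z, rfl⟩⟩ := x
  exact ⟨v.toAdd, z, rfl⟩

theorem el_right (v : Fin N → M0 K) (z : G0 K) : ((el N v z).right : MulAut _) = rho N z := rfl

theorem el_pow_right (v : Fin N → M0 K) (z : G0 K) (n : ℕ) :
    ((el N v z ^ n).right : MulAut _) = rho N (z ^ n) := by
  rw [map_pow, ← el_right N v z, ← SubmonoidClass.coe_pow]
  exact congrArg Subtype.val (map_pow SemidirectProduct.rightHom (el N v z) n)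

theorem rho_eq_one {z : G0 K} (h : ∀ M : M0 K, act z M = M) : rho N z = 1 := by
  ext v : 1
  change aut N z v = v
  rw [aut_apply]
  simp [h]

theorem act_of_rho (hN : 1 ≤ N) {z : G0 K} (h : rho N z = 1) (M : M0 K) : act z M = M := by
  have h1 : aut N z (Multiplicative.ofAdd fun _ => M) = Multiplicative.ofAdd fun _ => M :=
    congrArg (fun f : MulAut _ => f (Multiplicative.ofAdd fun _ => M)) h
  rw [aut_apply] at h1
  exact congrFun (Multiplicative.ofAdd.injective h1) ⟨0, hN⟩

theorem vec_cube (v : Multiplicative (Fin N → M0 K)) : v ^ 3 = 1 := by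
  refine Multiplicative.toAdd.injective ?_
  rw [toAdd_pow, toAdd_one]
  funext i
  ext a b
  simp only [Pi.smul_apply, Matrix.smul_apply, Pi.zero_apply, Matrix.zero_apply, nsmul_eq_mul,
    CharP.cast_eq_zero K 3, zero_mul]

/-- When a power of the image is trivial, the power of the element has order dividing three. -/
theorem pow_three_mul (v : Fin N → M0 K) (z : G0 K) (n : ℕ) (hn : rho N (z ^ n) = 1) :
    el N v z ^ (n * 3) = 1 := by
  have h : el N v z ^ n = SemidirectProduct.inl (el N v z ^ n).left := by
    refine SemidirectProduct.ext (by simp) (Subtype.ext ?_)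
    rw [el_pow_right, hn]
    simp
  rw [pow_mul, h, ← map_pow, vec_cube, map_one]

/-- With no fixed vector the power is trivial. -/
theorem pow_eq_one (v : Fin N → M0 K) (z : G0 K) (n : ℕ) (hn : rho N (z ^ n) = 1)
    (hfix : ∀ M : M0 K, act z M = M → M = 0) : el N v z ^ n = 1 := by
  set w := (el N v z ^ n).left with hw
  have h : el N v z ^ n = SemidirectProduct.inl w := by
    refine SemidirectProduct.ext (by simp [hw]) (Subtype.ext ?_)
    rw [el_pow_right, hn]
    simp
  have hc : el N v z * el N v z ^ n = el N v z ^ n * el N v z := (Commute.self_pow _ n).eq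
  rw [h] at hc
  have hl := congrArg SemidirectProduct.left hc
  rw [SemidirectProduct.mul_left, SemidirectProduct.mul_left] at hl
  simp only [SemidirectProduct.left_inl, SemidirectProduct.right_inl, map_one, MulAut.one_apply,
    Subgroup.coe_subtype, el_right] at hl
  rw [mul_comm w, mul_right_inj] at hl
  change aut N z w = w at hl
  rw [aut_apply] at hl
  have hw1 : w = 1 := by
    refine Multiplicative.toAdd.injective (funext fun i => ?_)
    exact hfix _ (congrFun (congrArg Multiplicative.toAdd hl) i)
  rw [h, hw1, map_one]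

/-! ### Traces -/

omit [CharP K 3] in
theorem cast_unit (e : ℤˣ) : ((e : ℤ) : K) = 1 ∨ ((e : ℤ) : K) = -1 := by
  rcases Int.units_eq_one_or e with rfl | rfl <;> simp

theorem two_eq : (2 : K) = -1 := by
  have h : ((3 : ℕ) : K) = 0 := CharP.cast_eq_zero K 3
  push_cast at h
  linear_combination h

omit [CharP K 3] in
theorem ch (A : M0 K) (hA : A.det = 1) : A * A = A.trace • A - 1 := by
  rw [Matrix.det_fin_two] at hA
  ext i j
  fin_cases i <;> fin_cases j <;>
    simp [Matrix.mul_apply, Fin.sum_univ_two, Matrix.trace_fin_two] <;>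
      first | ring1 | linear_combination hA | linear_combination (-1 : K) * hA

/-- The twisted transpose. -/
def tw (A : M0 K) : M0 K := (A.map (cube K)).transpose

theorem tw_det (g : Matrix.SpecialLinearGroup (Fin 2) K) : (tw g.1).det = 1 := by
  rw [tw, Matrix.det_transpose, ← RingHom.mapMatrix_apply, ← RingHom.map_det, g.2, map_one]

theorem tw_trace (A : M0 K) : (tw A).trace = A.trace ^ 3 := by
  simp [tw, Matrix.trace_fin_two, cube, frobenius_def, add_pow_char]

/-- A non-zero fixed vector forces a condition on the trace. -/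
theorem fixed_cases (z : G0 K) (M : M0 K) (h : act z M = M) :
    M = 0 ∨ z.1.1.trace * (z.1.1.trace ^ 2 - ((z.2 : ℤ) : K)) = 0 := by
  set g := z.1.1 with hg
  set t := g.trace with ht
  set e := ((z.2 : ℤ) : K) with he
  have hee : e * e = 1 := by rcases cast_unit (K := K) z.2 with h | h <;> rw [he, h] <;> simp
  set k := tw g
  have hh : e • (g * M * k) = M := h
  have hk : k * k = t ^ 3 • k - 1 := by rw [ch k (tw_det z.1), tw_trace]
  have hgg : g * g = t • g - 1 := ch g z.1.2
  have h1 : g * M * k = e • M := by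
    conv_rhs => rw [← hh, smul_smul, hee, one_smul]
  -- apply `g` to the relation
  have h2 : e • (g * M) = (t * e) • M - M * k := by
    have : g * (g * M * k) = g * (e • M) := by rw [h1]
    rw [Matrix.mul_smul, ← Matrix.mul_assoc, ← Matrix.mul_assoc, hgg, Matrix.sub_mul, Matrix.sub_mul,
      Matrix.one_mul, Matrix.smul_mul, Matrix.smul_mul, h1, smul_smul] at this
    exact this.symm
  have h3 : g * M = t • M - e • (M * k) := by
    have := congrArg (fun A : M0 K => e • A) h2
    simp only [smul_smul, hee, one_smul, smul_sub] at this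
    rw [this, show e * (t * e) = t by rw [mul_left_comm, hee, mul_one]]
  -- apply `k` to it
  have h4 : (t - e * t ^ 3) • (M * k) = 0 := by
    have h5 : g * M * k = (t • M - e • (M * k)) * k := by rw [h3]
    rw [h1, Matrix.sub_mul, Matrix.smul_mul, Matrix.smul_mul, Matrix.mul_assoc, hk, Matrix.mul_sub,
      Matrix.mul_one, Matrix.mul_smul, smul_sub, smul_smul] at h5
    rw [sub_smul]
    calc t • (M * k) - (e * t ^ 3) • (M * k)
        = (t • (M * k) - ((e * t ^ 3) • (M * k) - e • M)) - e • M := by abel
      _ = 0 := by rw [← h5, sub_self]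
  rcases smul_eq_zero.1 h4 with hs | hMk
  · refine Or.inr ?_
    have : e * (t - e * t ^ 3) = 0 := by rw [hs, mul_zero]
    linear_combination -this + (- t ^ 3) * hee
  · left
    have hu : IsUnit k := by
      rw [Matrix.isUnit_iff_isUnit_det, tw_det]
      exact isUnit_one
    exact hu.mul_left_eq_zero.1 hMk

theorem rho_pm {g : Matrix.SpecialLinearGroup (Fin 2) K} (hg : g.1 = 1 ∨ g.1 = -1) : rho N ((g, 1) : G0 K) = 1 := by
  refine rho_eq_one N fun M => ?_
  rcases hg with h | h
  · simp [act, h, Matrix.map_one]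
  · simp [act, h, Matrix.map_neg, Matrix.map_one]

theorem rho_pow_of_pm (z : G0 K) {n : ℕ} (hg : (z.1 ^ n).1 = 1 ∨ (z.1 ^ n).1 = -1) (he : z.2 ^ n = 1) :
    rho N (z ^ n) = 1 := by
  have : z ^ n = (z.1 ^ n, 1) := by rw [← he]; rfl
  rw [this]
  exact rho_pm N hg

variable [Fintype K]

omit [CharP K 3] [Fintype K] in
theorem pm_of_mem_center {g : Matrix.SpecialLinearGroup (Fin 2) K}
    (h : g ∈ Subgroup.center (Matrix.SpecialLinearGroup (Fin 2) K)) : g.1 = 1 ∨ g.1 = -1 := by
  obtain ⟨r, hr, hgr⟩ := Matrix.SpecialLinearGroup.mem_center_iff.1 h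
  rw [← hgr]
  rcases mul_self_eq_one_iff.1 (show r * r = 1 by simpa [pow_two] using hr) with rfl | rfl
  · left; simp
  · right; ext i j; fin_cases i <;> fin_cases j <;> simp

/-- The element orders of the group divide the four numbers. -/
theorem orders_dvd (hq : Fintype.card K % 8 = 3) (h4 : 4 ≤ Fintype.card K) (x : Ext K N) :
    orderOf x ∣ 6 ∨ orderOf x ∣ 9 ∨ orderOf x ∣ Fintype.card K - 1 ∨ orderOf x ∣ (Fintype.card K + 1) / 2 := by
  obtain ⟨v, z, rfl⟩ := exists_el N x
  set q := Fintype.card K with hqdef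
  set t := z.1.1.trace with ht
  set e := ((z.2 : ℤ) : K) with he
  have hgg : z.1.1 * z.1.1 = t • z.1.1 - 1 := ch _ z.1.2
  have hev : ∀ n, Even n → z.2 ^ n = 1 := fun n hn => by
    obtain ⟨k, rfl⟩ := hn
    rw [← two_mul, pow_mul, Int.units_sq, one_pow]
  by_cases ht0 : t = 0
  · -- the image is an involution at most
    left
    refine orderOf_dvd_of_pow_eq_one ?_
    have h2 : rho N (z ^ 2) = 1 := rho_pow_of_pm N z (Or.inr (by
      rw [pow_two, coe_mul', hgg, ht0, zero_smul, zero_sub])) (hev 2 even_two)
    exact pow_three_mul N v z 2 h2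
  have hg3 : (z.1 ^ 3).1 = (t ^ 2 - 1) • z.1.1 - t • 1 := by
    rw [pow_succ, pow_two, coe_mul', coe_mul', hgg, Matrix.sub_mul,
      Matrix.one_mul, Matrix.smul_mul, hgg, smul_sub, smul_smul, sub_smul, one_smul, pow_two]
    abel
  by_cases ht1 : t ^ 2 = 1
  · have hg3' : (z.1 ^ 3).1 = 1 ∨ (z.1 ^ 3).1 = -1 := by
      rw [hg3, ht1, sub_self, zero_smul, zero_sub]
      rcases sq_eq_one_iff.1 ht1 with h | h <;> rw [h]
      · right; rw [one_smul]
      · left; rw [neg_smul, one_smul, neg_neg]
    rcases Int.units_eq_one_or z.2 with hz | hz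
    · right; left
      refine orderOf_dvd_of_pow_eq_one ?_
      exact pow_three_mul N v z 3 (rho_pow_of_pm N z hg3' (by rw [hz, one_pow]))
    · left
      refine orderOf_dvd_of_pow_eq_one (pow_eq_one N v z 6 (rho_pow_of_pm N z ?_ (hev 6 (by decide))) ?_)
      · left
        rw [show (6 : ℕ) = 3 * 2 by rfl, pow_mul, pow_two, coe_mul']
        rcases hg3' with h | h <;> rw [h] <;> simp
      · intro M hM
        refine (fixed_cases z M hM).resolve_right (mul_ne_zero ht0 ?_)
        rw [← ht, ht1, hz]
        simp only [Units.val_neg, Units.val_one, Int.cast_neg, Int.cast_one, sub_neg_eq_add, one_add_one_eq_two,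
          two_eq]
        exact neg_ne_zero.2 one_ne_zero
  -- semisimple
  have hfix : ∀ M, act z M = M → M = 0 := fun M hM => by
    refine (fixed_cases z M hM).resolve_right (mul_ne_zero ht0 (sub_ne_zero.2 ?_))
    rcases cast_unit (K := K) z.2 with h | h <;> rw [h]
    · exact ht1
    · intro h'
      have : IsSquare (-1 : K) := ⟨t, by rw [← pow_two, ← ht] at *; exact h'.symm⟩
      exact FiniteField.isSquare_neg_one_iff.1 this (by rw [← hqdef]; omega)
  have hspec : orderOf (QuotientGroup.mk z.1 : Matrix.ProjectiveSpecialLinearGroup (Fin 2) K) ∈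
      Set.range (orderOf : Matrix.ProjectiveSpecialLinearGroup (Fin 2) K → ℕ) := ⟨_, rfl⟩
  rw [S2475.result 3 h4, ← hqdef, show Nat.gcd 2 (q - 1) = 2 from
    Nat.gcd_eq_left (by omega)] at hspec
  have hpm : ∀ n, orderOf (QuotientGroup.mk z.1 : Matrix.ProjectiveSpecialLinearGroup (Fin 2) K) ∣ n →
      (z.1 ^ n).1 = 1 ∨ (z.1 ^ n).1 = -1 := fun n hn => by
    refine pm_of_mem_center ?_
    rw [← QuotientGroup.eq_one_iff, QuotientGroup.mk_pow]
    exact orderOf_dvd_iff_pow_eq_one.1 hn
  rcases hspec with h | h | h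
  · exfalso
    have h3 := hpm 3 h
    rw [hg3] at h3
    have hoff : z.1.1 0 1 = 0 ∧ z.1.1 1 0 = 0 ∧ z.1.1 0 0 = z.1.1 1 1 := by
      have hne : t ^ 2 - 1 ≠ 0 := sub_ne_zero.2 ht1
      rcases h3 with h3 | h3 <;>
      · have a := congrFun (congrFun h3 0) 1
        have b := congrFun (congrFun h3 1) 0
        have c := congrFun (congrFun h3 0) 0
        have d := congrFun (congrFun h3 1) 1
        simp at a b c d
        refine ⟨a.resolve_left hne, b.resolve_left hne, mul_left_cancel₀ hne ?_⟩
        linear_combination c - d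
    have hdet := z.1.2
    rw [Matrix.det_fin_two, hoff.1, hoff.2.2] at hdet
    apply ht1
    rw [ht, Matrix.trace_fin_two, hoff.2.2]
    linear_combination (4 : K) * hdet + (two_eq (K := K)) * (-1) + (two_eq (K := K)) * 2
  · right; right; left
    refine orderOf_dvd_of_pow_eq_one (pow_eq_one N v z _ (rho_pow_of_pm N z (hpm _ ?_) (hev _ ?_)) hfix)
    · exact h.trans (Nat.div_dvd_of_dvd (by omega))
    · exact Nat.even_iff.2 (by omega)
  · right; right; right
    refine orderOf_dvd_of_pow_eq_one (pow_eq_one N v z _ (rho_pow_of_pm N z (hpm _ h) (hev _ ?_)) hfix)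
    exact Nat.even_iff.2 (by omega)

end Cfsg.Agent.ReeCube
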