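import Cfsg.Agent.ReeCube.Module

/-!
Each of the four numbers is an element order of the twisted extension.
-/

set_option autoImplicit false

namespace Cfsg.Agent.ReeCube

open Matrix

variable {K : Type*} [Field K] [CharP K 3] (N : ℕ)

theorem neg_one_ne : (-1 : K) ≠ 1 := fun h => by
  have h2 : (2 : K) = 0 := by linear_combination -h
  rw [two_eq] at h2
  exact neg_ne_zero.2 one_ne_zero h2

theorem kernel_cases [Fintype K] {z : G0 K} (h : ∀ M : M0 K, act z M = M) :
    (z.1.1 = 1 ∨ z.1.1 = -1) ∧ z.2 = 1 := by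
  set e := ((z.2 : ℤ) : K) with he
  have hh : ∀ M : M0 K, e • (z.1.1 * M * tw z.1.1) = M := h
  have h1 : (e • z.1.1) * tw z.1.1 = 1 := by rw [Matrix.smul_mul]; simpa using hh 1
  have h2 : tw z.1.1 * (e • z.1.1) = 1 := mul_eq_one_comm.1 h1
  have hee : e * e = 1 := by rcases cast_unit (K := K) z.2 with h | h <;> rw [he, h] <;> simp
  have hc : ∀ M : M0 K, z.1.1 * M = M * z.1.1 := fun M => by
    have a : (e • z.1.1) * M = M * (e • z.1.1) := by
      calc (e • z.1.1) * M = (e • (z.1.1 * M * tw z.1.1)) * (e • z.1.1) := by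
            rw [← Matrix.smul_mul, ← Matrix.smul_mul, Matrix.mul_assoc, h2, Matrix.mul_one]
        _ = M * (e • z.1.1) := by rw [hh]
    rw [Matrix.smul_mul, Matrix.mul_smul] at a
    have := congrArg (fun A : M0 K => e • A) a
    simpa [smul_smul, hee] using this
  have hpm : z.1.1 = 1 ∨ z.1.1 = -1 :=
    pm_of_mem_center (Subgroup.mem_center_iff.2 fun w => Subtype.ext (hc w.1).symm)
  refine ⟨hpm, ?_⟩
  rcases Int.units_eq_one_or z.2 with h' | h'
  · exact h'
  · exfalso
    have h3 := congrFun (congrFun (h 1) 0) 0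
    rcases hpm with hg | hg
    · simp [act, h', hg, Matrix.map_one] at h3
      exact neg_one_ne h3
    · simp [act, h', hg, Matrix.map_neg, Matrix.map_one] at h3
      exact neg_one_ne h3

theorem orderOf_el_zero (z : G0 K) : orderOf (el N 0 z) = orderOf (rho N z) := by
  change orderOf (SemidirectProduct.inr (⟨rho N z, z, rfl⟩ : (rho (K := K) N).range) : Ext K N) = _
  rw [orderOf_injective _ SemidirectProduct.inr_injective, ← Subgroup.orderOf_coe]

theorem kernel_pow [Fintype K] (hN : 1 ≤ N) {z : G0 K} {n : ℕ} (h : rho N z ^ n = 1) :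
    ((z.1 ^ n).1 = 1 ∨ (z.1 ^ n).1 = -1) ∧ z.2 ^ n = 1 := by
  rw [← map_pow] at h
  exact kernel_cases (act_of_rho N hN h)

theorem pm_of_sq {g : Matrix.SpecialLinearGroup (Fin 2) K} (h : g * g = 1) : g.1 = 1 ∨ g.1 = -1 := by
  have h1 : g.1 * g.1 = 1 := congrArg Subtype.val h
  have h2 := ch g.1 g.2
  rw [h1] at h2
  have h3 : g.1.trace • g.1 = (-1 : K) • (1 : M0 K) := by
    rw [eq_sub_iff_add_eq] at h2
    rw [← h2, ← two_smul K, two_eq]
  by_cases ht : g.1.trace = 0
  · rw [ht, zero_smul] at h3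
    have := congrFun (congrFun h3 0) 0
    simp at this
  · have h4 : g.1 = (g.1.trace⁻¹ * -1) • (1 : M0 K) := by
      rw [← smul_smul, ← h3, smul_smul, inv_mul_cancel₀ ht, one_smul]
    set c := g.1.trace⁻¹ * -1
    have h5 : c * c = 1 := by
      rw [h4] at h1
      simpa using congrFun (congrFun h1 0) 0
    rcases mul_self_eq_one_iff.1 h5 with hc | hc <;> rw [hc] at h4
    · exact Or.inl (by rw [h4, one_smul])
    · exact Or.inr (by rw [h4, neg_smul, one_smul])

theorem exists_nine (hN : 1 ≤ N) : ∃ x : Ext K N, orderOf x = 9 := by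
  let z : G0 K := (IsoSpecS4.unip, 1)
  let v : Fin N → M0 K := fun _ => !![0, 0; 0, 1]
  refine ⟨el N v z, orderOf_eq_prime_pow (p := 3) (n := 1) ?_ ?_⟩
  · rw [pow_one]
    intro h
    have hl := congrArg (fun x : Ext K N => x.left.toAdd ⟨0, hN⟩) h
    simp only [pow_succ, pow_zero, one_mul, SemidirectProduct.mul_left, SemidirectProduct.one_left,
      toAdd_mul, toAdd_one, Pi.add_apply, Pi.zero_apply, SemidirectProduct.mul_right,
      Subgroup.coe_subtype, map_mul, MulAut.mul_apply] at hl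
    change v ⟨0, hN⟩ + act z (v ⟨0, hN⟩) + act z (act z (v ⟨0, hN⟩)) = 0 at hl
    have hz : z.1.1 = !![1, 1; 0, 1] := rfl
    have ht : tw z.1.1 = !![1, 0; 1, 1] := by
      rw [hz]
      ext i j
      fin_cases i <;> fin_cases j <;> simp [tw, cube]
    have hact : ∀ p q r s : K, act z !![p, q; r, s] = !![p + r + (q + s), q + s; r + s, s] := fun p q r s => by
      change ((((1 : ℤˣ) : ℤ)) : K) • (z.1.1 * !![p, q; r, s] * tw z.1.1) = _
      rw [ht, hz, Units.val_one, Int.cast_one, one_smul, Matrix.mul_fin_two, Matrix.mul_fin_two]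
      ext i j
      fin_cases i <;> fin_cases j <;> simp
    simp only [v, hact] at hl
    have h0 := congrFun (congrFun hl 0) 0
    simp at h0
    refine one_ne_zero (α := K) ?_
    have h3 : (2 : K) + 1 = 0 := by rw [two_eq, neg_add_cancel]
    linear_combination -h0 + 2 * h3
  · refine pow_three_mul N v z 3 (rho_pow_of_pm N z (Or.inl ?_) (one_pow _))
    rw [IsoSpecS4.unip_pow, CharP.cast_eq_zero K 3, Matrix.one_fin_two]

theorem exists_six [Fintype K] (hN : 1 ≤ N) : ∃ x : Ext K N, orderOf x = 6 := by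
  let z : G0 K := (IsoSpecS4.unip, -1)
  refine ⟨el N 0 z, ?_⟩
  rw [orderOf_el_zero]
  refine Nat.dvd_antisymm (orderOf_dvd_of_pow_eq_one ?_) ?_
  · rw [← map_pow]
    refine rho_pow_of_pm N z (Or.inl ?_) (Even.neg_one_pow (by decide))
    rw [IsoSpecS4.unip_pow, (CharP.cast_eq_zero_iff K 3 6).2 (by norm_num), Matrix.one_fin_two]
  · obtain ⟨hg, he⟩ := kernel_pow N hN (pow_orderOf_eq_one (rho N z))
    set n := orderOf (rho N z)
    rw [IsoSpecS4.unip_pow] at hg
    have h3 : 3 ∣ n := by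
      rw [← CharP.cast_eq_zero_iff K 3]
      rcases hg with h | h <;> simpa using congrFun (congrFun h 0) 1
    have h2 : 2 ∣ n := by
      rcases Nat.even_or_odd n with h | h
      · exact h.two_dvd
      · rw [h.neg_one_pow] at he
        exact absurd he (by decide)
    exact Nat.Coprime.mul_dvd_of_dvd_of_dvd (show Nat.Coprime 2 3 by norm_num) h2 h3

theorem exists_minus [Fintype K] (hN : 1 ≤ N) (hq : Fintype.card K % 8 = 3) :
    ∃ x : Ext K N, orderOf x = Fintype.card K - 1 := by
  obtain ⟨g, hg⟩ := IsoSpecS4.exists_sl_orderOf (F := K) (Fintype.card K - 1) (Or.inl rfl)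
  set q := Fintype.card K
  let z : G0 K := (g, -1)
  refine ⟨el N 0 z, ?_⟩
  rw [orderOf_el_zero]
  refine Nat.dvd_antisymm (orderOf_dvd_of_pow_eq_one ?_) ?_
  · rw [← map_pow]
    refine rho_pow_of_pm N z (Or.inl ?_) (Even.neg_one_pow (Nat.even_iff.2 (by omega)))
    rw [← hg, pow_orderOf_eq_one]; rfl
  · obtain ⟨hgn, he⟩ := kernel_pow N hN (pow_orderOf_eq_one (rho N z))
    set n := orderOf (rho N z)
    have h2 : 2 ∣ n := by
      rcases Nat.even_or_odd n with h | h
      · exact h.two_dvd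
      · rw [h.neg_one_pow] at he
        exact absurd he (by decide)
    have h2n : g ^ (n * 2) = 1 := by
      refine Subtype.ext ?_
      rw [pow_mul, pow_two, coe_mul']
      have hgn' : (g ^ n).1 = 1 ∨ (g ^ n).1 = -1 := hgn
      rcases hgn' with h | h <;> rw [h] <;> simp
    have hd : q - 1 ∣ n * 2 := hg ▸ orderOf_dvd_of_pow_eq_one h2n
    rw [show q - 1 = (q - 1) / 2 * 2 by omega] at hd ⊢
    exact Nat.Coprime.mul_dvd_of_dvd_of_dvd
      (Nat.coprime_two_right.2 (Nat.odd_iff.2 (by omega))) (Nat.dvd_of_mul_dvd_mul_right (by norm_num) hd) h2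

theorem exists_plus [Fintype K] (hN : 1 ≤ N) (hq : Fintype.card K % 8 = 3) :
    ∃ x : Ext K N, orderOf x = (Fintype.card K + 1) / 2 := by
  obtain ⟨g, hg⟩ := IsoSpecS4.exists_sl_orderOf (F := K) (Fintype.card K + 1) (Or.inr rfl)
  set q := Fintype.card K
  let z : G0 K := (g, 1)
  refine ⟨el N 0 z, ?_⟩
  rw [orderOf_el_zero]
  refine Nat.dvd_antisymm (orderOf_dvd_of_pow_eq_one ?_) ?_
  · rw [← map_pow]
    refine rho_pow_of_pm N z (pm_of_sq ?_) (one_pow _)
    rw [← pow_add, show (q + 1) / 2 + (q + 1) / 2 = orderOf g by omega, pow_orderOf_eq_one]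
  · obtain ⟨hgn, -⟩ := kernel_pow N hN (pow_orderOf_eq_one (rho N z))
    set n := orderOf (rho N z)
    have h2n : g ^ (n * 2) = 1 := by
      refine Subtype.ext ?_
      rw [pow_mul, pow_two, coe_mul']
      have hgn' : (g ^ n).1 = 1 ∨ (g ^ n).1 = -1 := hgn
      rcases hgn' with h | h <;> rw [h] <;> simp
    have hd : q + 1 ∣ n * 2 := hg ▸ orderOf_dvd_of_pow_eq_one h2n
    rw [show q + 1 = (q + 1) / 2 * 2 by omega] at hd
    exact Nat.dvd_of_mul_dvd_mul_right (by norm_num) hd

/-- The element orders of the extension are exactly the divisors of the four numbers. -/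
theorem orders_iff [Fintype K] (hN : 1 ≤ N) (hq : Fintype.card K % 8 = 3) (h4 : 4 ≤ Fintype.card K) (d : ℕ) :
    (∃ x : Ext K N, orderOf x = d) ↔
      (d ∣ 6 ∨ d ∣ 9 ∨ d ∣ Fintype.card K - 1 ∨ d ∣ (Fintype.card K + 1) / 2) := by
  constructor
  · rintro ⟨x, rfl⟩
    exact orders_dvd N hq h4 x
  · have key : ∀ n : ℕ, n ≠ 0 → (∃ x : Ext K N, orderOf x = n) → d ∣ n → ∃ x : Ext K N, orderOf x = d := by
      rintro n hn ⟨x, rfl⟩ hd
      exact ⟨x ^ (orderOf x / d), orderOf_pow_orderOf_div hn hd⟩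
    rintro (h | h | h | h)
    · exact key 6 (by norm_num) (exists_six N hN) h
    · exact key 9 (by norm_num) (exists_nine N hN) h
    · exact key _ (by omega) (exists_minus N hN hq) h
    · exact key _ (by omega) (exists_plus N hN hq) h

instance finite_ext [Fintype K] : Finite (Ext K N) :=
  Finite.of_equiv _ SemidirectProduct.equivProd.symm

theorem lt_card [Fintype K] : N < Nat.card (Ext K N) := by
  rw [SemidirectProduct.card]
  have h1 : N < Nat.card (Multiplicative (Fin N → M0 K)) := by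
    rw [Nat.card_congr Multiplicative.toAdd, Nat.card_fun, Nat.card_eq_fintype_card (α := Fin N),
      Fintype.card_fin]
    exact Nat.lt_pow_self Finite.one_lt_card
  have h2 : 0 < Nat.card (rho (K := K) N).range := Nat.card_pos
  exact h1.trans_le (Nat.le_mul_of_pos_right _ h2)

end Cfsg.Agent.ReeCube
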